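import Cfsg.Agent.H79.XZ.OrthLam
import Cfsg.Agent.H563.XZ.OwnOmRow

/-!
# S4791 + S4927, own characteristic: `PΩ⁺_{2m}(q)`, `m ≥ 4` (helper79)

* `tcls_of_lam` : `TCls` from different sets `Lam`;
* `tcls_main` : enough classes for `p ≥ 11` and Witt index at least 3;
* `cls_of_plus` : the row.
-/

set_option autoImplicit false
set_option linter.unusedSectionVars false

universe u

namespace Cfsg.Agent.H79.XZ

open QuadraticMap Module Cfsg
open Cfsg.Agent.LieClassical.OrthCore Cfsg.Agent.LieClassical.OrthTrans Cfsg.Agent.LieClassical.OrthForms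
  Cfsg.Agent.LieClassical.OrthFinite
open Cfsg.Agent.TitsThree Cfsg.Agent.TitsThree.Siegel Cfsg.Agent.TitsThree.SiegelGen Cfsg.Agent.TitsThree.KSideO
open Cfsg.Agent.H712.XZ

theorem tcls_of_lam {p r : ℕ} {S : Type u} [Group S] {κ : Type*} (A : Finset κ) (x : κ → S)
    (h1 : ∀ k ∈ A, ¬ p ∣ orderOf (x k)) (h2 : ∀ k ∈ A, ∃ Q : Sylow p S, ∀ u ∈ (Q : Subgroup S), x k * u * (x k)⁻¹ ∈ (Q : Subgroup S))
    (h3 : ∀ k ∈ A, ∀ l ∈ A, Lam p (x k) = Lam p (x l) → k = l) (hr : r ≤ A.card) : TCls p r S := by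
  obtain ⟨B, hB, hBr⟩ := Finset.exists_subset_card_eq hr
  let e := B.equivFinOfCardEq hBr
  refine ⟨fun i => x (e.symm i), fun i => h1 _ (hB (e.symm i).2), fun i => h2 _ (hB (e.symm i).2), fun i j σ h => ?_⟩
  apply e.symm.injective
  apply Subtype.ext
  apply h3 _ (hB (e.symm i).2) _ (hB (e.symm j).2)
  show Lam p (x (e.symm i)) = Lam p (x (e.symm j))
  have h' : σ (x (e.symm i)) = x (e.symm j) := h
  rw [← h', Lam_map]

/-- the exponents -/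
theorem exp_inj {N i j : ℕ} (hi : 2 * i ≤ N) (hj : 2 * j ≤ N) (hN : 0 < N)
    (hj5 : 5 * j ≠ N) (hj5' : 5 * j ≠ 2 * N)
    (h1 : (N : ℤ) ∣ i ∨ (N : ℤ) ∣ i - j ∨ (N : ℤ) ∣ i + j ∨ (N : ℤ) ∣ i - 2 * j ∨ (N : ℤ) ∣ i + 2 * j)
    (h2 : (N : ℤ) ∣ j ∨ (N : ℤ) ∣ j - i ∨ (N : ℤ) ∣ j + i ∨ (N : ℤ) ∣ j - 2 * i ∨ (N : ℤ) ∣ j + 2 * i) : i = j := by
  have key : ∀ x : ℤ, (N : ℤ) ∣ x → -N ≤ x → 2 * x ≤ 3 * N → x = -N ∨ x = 0 ∨ x = N := by
    rintro x ⟨q, rfl⟩ ha hb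
    have hN' : (0 : ℤ) < N := by exact_mod_cast hN
    have hq1 : -1 ≤ q := by nlinarith
    have hq2 : q < 2 := by nlinarith
    have : q = -1 ∨ q = 0 ∨ q = 1 := by omega
    rcases this with rfl | rfl | rfl
    · left; ring
    · right; left; ring
    · right; right; ring
  have h1' : ∃ x : ℤ, (x = i ∨ x = i - j ∨ x = i + j ∨ x = i - 2 * j ∨ x = i + 2 * j) ∧ (x = -N ∨ x = 0 ∨ x = N) := by
    rcases h1 with h | h | h | h | h
    · exact ⟨_, Or.inl rfl, key _ h (by omega) (by omega)⟩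
    · exact ⟨_, Or.inr (Or.inl rfl), key _ h (by omega) (by omega)⟩
    · exact ⟨_, Or.inr (Or.inr (Or.inl rfl)), key _ h (by omega) (by omega)⟩
    · exact ⟨_, Or.inr (Or.inr (Or.inr (Or.inl rfl))), key _ h (by omega) (by omega)⟩
    · exact ⟨_, Or.inr (Or.inr (Or.inr (Or.inr rfl))), key _ h (by omega) (by omega)⟩
  have h2' : ∃ x : ℤ, (x = j ∨ x = j - i ∨ x = j + i ∨ x = j - 2 * i ∨ x = j + 2 * i) ∧ (x = -N ∨ x = 0 ∨ x = N) := by
    rcases h2 with h | h | h | h | h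
    · exact ⟨_, Or.inl rfl, key _ h (by omega) (by omega)⟩
    · exact ⟨_, Or.inr (Or.inl rfl), key _ h (by omega) (by omega)⟩
    · exact ⟨_, Or.inr (Or.inr (Or.inl rfl)), key _ h (by omega) (by omega)⟩
    · exact ⟨_, Or.inr (Or.inr (Or.inr (Or.inl rfl))), key _ h (by omega) (by omega)⟩
    · exact ⟨_, Or.inr (Or.inr (Or.inr (Or.inr rfl))), key _ h (by omega) (by omega)⟩
  obtain ⟨x, hx1, hx2⟩ := h1'
  obtain ⟨y, hy1, hy2⟩ := h2'
  omega

/-- the index set -/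
theorem exists_index {N : ℕ} (hN : 12 ≤ N) (hev : Even N) : ∃ A : Finset ℕ, 4 * N < A.card ^ 2 ∧
    ∀ i ∈ A, 2 * i ≤ N ∧ 5 * i ≠ N ∧ 5 * i ≠ 2 * N := by
  obtain ⟨k, hk⟩ := hev
  by_cases h5 : 5 ∣ N
  · obtain ⟨l, hl⟩ := h5
    refine ⟨((Finset.range (N / 2 + 1)).erase l).erase (2 * l), ?_, ?_⟩
    · have h1 := Finset.pred_card_le_card_erase (s := Finset.range (N / 2 + 1)) (a := l)
      have h2 := Finset.pred_card_le_card_erase (s := (Finset.range (N / 2 + 1)).erase l) (a := 2 * l)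
      rw [Finset.card_range] at h1
      have h3 : N / 2 - 1 ≤ (((Finset.range (N / 2 + 1)).erase l).erase (2 * l)).card := by omega
      have h4 : 9 ≤ k - 1 := by omega
      have h5 : N / 2 - 1 = k - 1 := by omega
      rw [h5] at h3
      have h6 := Nat.pow_le_pow_left h3 2
      have h7 : 4 * N < (k - 1) ^ 2 := by
        obtain ⟨t, rfl⟩ : ∃ t, k = t + 1 := ⟨k - 1, by omega⟩
        rw [Nat.add_sub_cancel] at *
        rw [hk]
        nlinarith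
      omega
    · intro i hi
      rw [Finset.mem_erase, Finset.mem_erase, Finset.mem_range] at hi
      omega
  · refine ⟨Finset.range (N / 2 + 1), ?_, ?_⟩
    · rw [Finset.card_range]
      have : N / 2 = k := by omega
      rw [this, hk]
      have : 6 ≤ k := by omega
      nlinarith
    · intro i hi
      rw [Finset.mem_range] at hi
      omega

open Cfsg.Agent.TitsThree.WBridge Cfsg.Agent.Nodes.WittRoot

/-- the seven sets for `p = 11` -/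
def L11 : Fin 7 → Finset (ZMod 11) :=
  ![{1}, {1, 10}, {1, 3, 4, 5, 9}, {1, 2, 3, 4, 6}, {1, 5, 7, 8, 9}, {1, 3, 4}, {1, 5, 9}]

theorem L11_inj : Function.Injective L11 := by decide +kernel

theorem L11_a0 : ∀ z : ZMod 11, (z = 1 ∨ z = 1 ∨ z = 1 ∨ z = 1 ^ 2 ∨ z = 1 ^ 2) ↔ z ∈ L11 0 := by decide +kernel
theorem L11_a1 : ∀ z : ZMod 11, (z = 1 ∨ z = 10 ∨ z = 10 ∨ z = 10 ^ 2 ∨ z = 10 ^ 2) ↔ z ∈ L11 1 := by decide +kernel
theorem L11_a2 : ∀ z : ZMod 11, (z = 1 ∨ z = 4 ∨ z = 3 ∨ z = 4 ^ 2 ∨ z = 3 ^ 2) ↔ z ∈ L11 2 := by decide +kernel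
theorem L11_a3 : ∀ z : ZMod 11, (z = 1 ∨ z = 2 ∨ z = 6 ∨ z = 2 ^ 2 ∨ z = 6 ^ 2) ↔ z ∈ L11 3 := by decide +kernel
theorem L11_a4 : ∀ z : ZMod 11, (z = 1 ∨ z = 8 ∨ z = 7 ∨ z = 8 ^ 2 ∨ z = 7 ^ 2) ↔ z ∈ L11 4 := by decide +kernel
theorem L11_a5 : ∀ z : ZMod 11, (z = 1 ∨ z = 2 ^ 2 ∨ z = 3) ↔ z ∈ L11 5 := by decide +kernel
theorem L11_a6 : ∀ z : ZMod 11, (z = 1 ∨ z = 4 ^ 2 ∨ z = 9) ↔ z ∈ L11 6 := by decide +kernel

theorem m11_0 : (1 : ZMod 11) * 1 = 1 := by decide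
theorem m11_1 : (10 : ZMod 11) * 10 = 1 := by decide
theorem m11_2 : (4 : ZMod 11) * 3 = 1 := by decide
theorem m11_3 : (2 : ZMod 11) * 6 = 1 := by decide
theorem m11_4 : (8 : ZMod 11) * 7 = 1 := by decide
theorem m11_5 : (2 : ZMod 11) ^ 2 * 3 = 1 ∧ (2 : ZMod 11) ^ 2 ≠ 1 ∧ ((2 : ZMod 11) ^ 2) ^ 2 ≠ 1 := by decide
theorem m11_6 : (4 : ZMod 11) ^ 2 * 9 = 1 ∧ (4 : ZMod 11) ^ 2 ≠ 1 ∧ ((4 : ZMod 11) ^ 2) ^ 2 ≠ 1 := by decide

theorem key11 {P : ZMod 11 → Prop} {s : Finset (ZMod 11)} (h : ∀ z, P z ↔ z ∈ s) :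
    {n : ℕ | P (n : ZMod 11)} = {n : ℕ | (n : ZMod 11) ∈ s} := by
  ext n
  exact h _

section main

variable {ι : Type} [Fintype ι] [DecidableEq ι] {F : Type u} [Field F] {Q : QuadraticForm F (ι → F)} {m p : ℕ}
  {W : WFrame (KSideO.PO Q) m}

theorem mono_of_tdiag {c : Fin m → F} {t : (ι → F) ≃ₗ[F] (ι → F)} (h : TDiag W c t) : Mono (toFrame W) t id := by
  rintro ⟨i, x⟩
  cases x
  · exact ⟨(c i)⁻¹, inv_ne_zero (h.ne i), h.f i⟩
  · exact ⟨c i, h.ne i, h.e i⟩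

theorem ker_sq (hG : Good Q) {z : ↥(E Q)} (hz : toPOmega hG z = 1) : z ^ 2 = 1 := by
  obtain ⟨c, h⟩ := Cfsg.Agent.TitsThree.KSideO.scalar_of_center hG (center_of_toPOmega hG hz)
  have hcc : c * c = 1 := by
    obtain ⟨x, y, hxy⟩ := hG.exists_hyp
    have h1 : Q (x + y) = 1 := by rw [Q_add, hxy.left, hxy.right, hxy.pair]; ring
    have h2 := mem_O.1 (E_le_O z.2) (x + y)
    rwa [h, QuadraticMap.map_smul, h1, smul_eq_mul, mul_one] at h2
  have h2 : ((z : (ι → F) ≃ₗ[F] (ι → F)) * (z : (ι → F) ≃ₗ[F] (ι → F))) = 1 := by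
    apply LinearEquiv.ext
    intro v
    rw [LinearEquiv.mul_apply, h, h, smul_smul, hcc, one_smul, LinearEquiv.coe_one, id]
  rw [pow_two]
  exact Subtype.ext h2

theorem lam_toPOmega (hG : Good Q) (hp : Odd p) (t : ↥(E Q)) : Lam p (toPOmega hG t) = Lam p t :=
  Lam_of_lift (toPOmega hG) (toPOmega_surjective hG) (fun _ hz => center_of_toPOmega hG (MonoidHom.mem_ker.1 hz))
    (fun _ hz => ker_sq hG (MonoidHom.mem_ker.1 hz)) hp t

/-- **enough classes** -/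
theorem tcls_main [Finite F] [CharP F p] [hp : Fact p.Prime] (h11 : 11 ≤ p) (h3 : 3 ≤ m) (hG : Good Q)
    (hS : ∃ R : Sylow p (POmega F ⇑Q), ∀ g : E Q, Mono (toFrame W) (g : (ι → F) ≃ₗ[F] (ι → F)) id →
      ¬ p ∣ orderOf (toPOmega hG g) ∧ ∀ u ∈ (R : Subgroup (POmega F ⇑Q)),
        toPOmega hG g * u * (toPOmega hG g)⁻¹ ∈ (R : Subgroup (POmega F ⇑Q))) :
    ∃ n, 4 * (p - 1) < n ^ 2 ∧ TCls p n (POmega F ⇑Q) := by
  obtain ⟨R, hR⟩ := hS
  have hodd : Odd p := hp.out.odd_of_ne_two (by omega)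
  let i0 : Fin m := ⟨0, by omega⟩
  let i1 : Fin m := ⟨1, by omega⟩
  let i2 : Fin m := ⟨2, by omega⟩
  have h01 : i0 ≠ i1 := by simp [i0, i1]
  have h02 : i0 ≠ i2 := by simp [i0, i2]
  have h12 : i1 ≠ i2 := by simp [i1, i2]
  let c : ZMod p →+* F := ZMod.castHom (dvd_refl p) F
  have hc : Function.Injective c := c.injective
  have hcn : ∀ (n : ℕ) (z : ZMod p), (n : F) = c z ↔ (n : ZMod p) = z := by
    intro n z
    rw [← map_natCast c n]
    exact hc.eq_iff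
  have hcn1 : ∀ n : ℕ, (n : F) = 1 ↔ (n : ZMod p) = 1 := fun n => by
    have := hcn n 1
    rwa [map_one] at this
  have hc0 : ∀ a : ZMod p, a ≠ 0 → c a ≠ 0 := fun a ha h => ha (hc (h.trans (map_zero c).symm))
  have htt : ∀ a : ZMod p, a ≠ 0 → ∃ t : ↥(E Q),
      TDiag W (fun k => (if k = i0 then c a else 1) * (if k = i1 then c a else 1)) (t : (ι → F) ≃ₗ[F] (ι → F)) :=
    fun a ha => exists_two hG h01 (hc0 a ha)
  have hlam : ∀ (a : ZMod p), a ≠ 0 → ∀ t : ↥(E Q),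
      TDiag W (fun k => (if k = i0 then c a else 1) * (if k = i1 then c a else 1)) (t : (ι → F) ≃ₗ[F] (ι → F)) →
      Lam p (toPOmega hG t) = {n : ℕ | (n : ZMod p) = 1 ∨ (n : ZMod p) = a ∨ (n : ZMod p) = a⁻¹ ∨
        (n : ZMod p) = a ^ 2 ∨ (n : ZMod p) = (a⁻¹) ^ 2} := by
    intro a ha t ht
    rw [lam_toPOmega hG hodd, lam_two h01 h02 h12 (hc0 a ha) ht]
    ext n
    simp only [Set.mem_ofPred_eq]
    rw [← map_inv₀, ← map_pow, ← map_pow, hcn, hcn, hcn, hcn, hcn1]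
  rcases eq_or_ne p 11 with rfl | hp11
  · -- `p = 11`
    have hb : ∀ b z : ZMod 11, b ^ 2 * z = 1 → b ^ 2 ≠ 1 → (b ^ 2) ^ 2 ≠ 1 → ∃ t : ↥(E Q),
        Mono (toFrame W) (t : (ι → F) ≃ₗ[F] (ι → F)) id ∧
        Lam 11 (toPOmega hG t) = {n : ℕ | (n : ZMod 11) = 1 ∨ (n : ZMod 11) = b ^ 2 ∨ (n : ZMod 11) = z} := by
      intro b z hz hb1 hb2
      have hb0 : b ≠ 0 := by
        rintro rfl
        rw [zero_pow two_ne_zero, zero_mul] at hz
        exact zero_ne_one hz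
      have hz' : z = (b ^ 2)⁻¹ := eq_inv_of_mul_eq_one_right hz
      obtain ⟨t, ht⟩ := exists_sq (W := W) hG i0 (hc0 b hb0)
      refine ⟨t, mono_of_tdiag ht, ?_⟩
      have e1 : (c b) ^ 2 ≠ 1 := by rw [← map_pow]; exact fun h => hb1 (hc (h.trans (map_one c).symm))
      have e2 : ((c b) ^ 2) ^ 2 ≠ 1 := by
        rw [← map_pow, ← map_pow]; exact fun h => hb2 (hc (h.trans (map_one c).symm))
      rw [lam_toPOmega hG hodd, lam_one h01 h02 h12 (pow_ne_zero 2 (hc0 b hb0)) e1 e2 ht]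
      ext n
      simp only [Set.mem_ofPred_eq]
      rw [← map_pow, ← map_inv₀, hcn, hcn, hcn1, hz']
    have ha : ∀ a z : ZMod 11, a * z = 1 → ∃ t : ↥(E Q), Mono (toFrame W) (t : (ι → F) ≃ₗ[F] (ι → F)) id ∧
        Lam 11 (toPOmega hG t) = {n : ℕ | (n : ZMod 11) = 1 ∨ (n : ZMod 11) = a ∨ (n : ZMod 11) = z ∨
        (n : ZMod 11) = a ^ 2 ∨ (n : ZMod 11) = z ^ 2} := by
      intro a z hz
      have ha0 : a ≠ 0 := left_ne_zero_of_mul_eq_one hz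
      have hz' : z = a⁻¹ := eq_inv_of_mul_eq_one_right hz
      obtain ⟨t, ht⟩ := htt a ha0
      exact ⟨t, mono_of_tdiag ht, by rw [hz']; exact hlam a ha0 t ht⟩
    have hex : ∀ k : Fin 7, ∃ t : ↥(E Q), Mono (toFrame W) (t : (ι → F) ≃ₗ[F] (ι → F)) id ∧
        Lam 11 (toPOmega hG t) = {n : ℕ | (n : ZMod 11) ∈ L11 k} := by
      intro k
      fin_cases k
      · obtain ⟨t, h1, h2⟩ := ha 1 1 m11_0
        exact ⟨t, h1, h2.trans (key11 L11_a0)⟩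
      · obtain ⟨t, h1, h2⟩ := ha 10 10 m11_1
        exact ⟨t, h1, h2.trans (key11 L11_a1)⟩
      · obtain ⟨t, h1, h2⟩ := ha 4 3 m11_2
        exact ⟨t, h1, h2.trans (key11 L11_a2)⟩
      · obtain ⟨t, h1, h2⟩ := ha 2 6 m11_3
        exact ⟨t, h1, h2.trans (key11 L11_a3)⟩
      · obtain ⟨t, h1, h2⟩ := ha 8 7 m11_4
        exact ⟨t, h1, h2.trans (key11 L11_a4)⟩
      · obtain ⟨t, h1, h2⟩ := hb 2 3 m11_5.1 m11_5.2.1 m11_5.2.2
        exact ⟨t, h1, h2.trans (key11 L11_a5)⟩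
      · obtain ⟨t, h1, h2⟩ := hb 4 9 m11_6.1 m11_6.2.1 m11_6.2.2
        exact ⟨t, h1, h2.trans (key11 L11_a6)⟩
    choose x hx1 hx2 using hex
    refine ⟨7, by norm_num, tcls_of_lam Finset.univ (fun k => toPOmega hG (x k)) (fun k _ => (hR _ (hx1 k)).1)
      (fun k _ => ⟨R, (hR _ (hx1 k)).2⟩) (fun k _ l _ h => ?_) (by simp)⟩
    simp only [hx2] at h
    apply L11_inj
    ext z
    have h1 : ((z.val : ℕ) : ZMod 11) = z := ZMod.natCast_zmod_val z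
    have h2 := Set.ext_iff.1 h z.val
    simp only [Set.mem_ofPred_eq, h1] at h2
    exact h2
  · -- `p ≥ 13`
    have hp12 : p ≠ 12 := by
      rintro rfl
      exact absurd hp.out (by norm_num)
    obtain ⟨A, hA1, hA2⟩ := exists_index (N := p - 1) (by omega) (by
      obtain ⟨k, hk⟩ := hodd
      exact ⟨k, by omega⟩)
    obtain ⟨g, hg⟩ := IsCyclic.exists_generator (α := (ZMod p)ˣ)
    have hgo : orderOf g = p - 1 := by
      rw [orderOf_eq_card_of_forall_mem_zpowers hg, Nat.card_eq_fintype_card, ZMod.card_units]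
    have hne : ∀ i : ℕ, ((g ^ i : (ZMod p)ˣ) : ZMod p) ≠ 0 := fun i => (g ^ i).ne_zero
    choose x hx using fun i : ℕ => htt _ (hne i)
    have hxl := fun i => hlam _ (hne i) (x i) (hx i)
    have hdvd : ∀ i j : ℕ, Lam p (toPOmega hG (x i)) = Lam p (toPOmega hG (x j)) →
        ((p - 1 : ℕ) : ℤ) ∣ i ∨ ((p - 1 : ℕ) : ℤ) ∣ i - j ∨ ((p - 1 : ℕ) : ℤ) ∣ i + j ∨ ((p - 1 : ℕ) : ℤ) ∣ i - 2 * j ∨
          ((p - 1 : ℕ) : ℤ) ∣ i + 2 * j := by
      intro i j h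
      rw [hxl, hxl] at h
      have h1 : ((((g ^ i : (ZMod p)ˣ) : ZMod p).val : ℕ) : ZMod p) = ((g ^ i : (ZMod p)ˣ) : ZMod p) :=
        ZMod.natCast_zmod_val _
      have h2 := (Set.ext_iff.1 h ((g ^ i : (ZMod p)ˣ) : ZMod p).val).1 (Or.inr (Or.inl h1))
      simp only [Set.mem_ofPred_eq] at h2
      rw [h1] at h2
      have key : ∀ z : ℤ, g ^ z = 1 → ((p - 1 : ℕ) : ℤ) ∣ z := fun z hz => by
        rw [← hgo]
        exact orderOf_dvd_iff_zpow_eq_one.2 hz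
      rcases h2 with h2 | h2 | h2 | h2 | h2
      · left
        apply key
        rw [zpow_natCast]
        exact Units.ext h2
      · right; left
        apply key
        rw [zpow_sub, zpow_natCast, zpow_natCast, mul_inv_eq_one]
        exact Units.ext h2
      · right; right; left
        apply key
        rw [zpow_add, zpow_natCast, zpow_natCast, mul_eq_one_iff_eq_inv]
        refine Units.ext ?_
        rw [h2, Units.val_inv_eq_inv_val]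
      · right; right; right; left
        apply key
        rw [zpow_sub, mul_comm (2 : ℤ), zpow_mul, zpow_natCast, zpow_natCast, mul_inv_eq_one]
        refine Units.ext ?_
        rw [h2]
        norm_cast
      · right; right; right; right
        apply key
        rw [zpow_add, mul_comm (2 : ℤ), zpow_mul, zpow_natCast, zpow_natCast, mul_eq_one_iff_eq_inv]
        refine Units.ext ?_
        rw [h2, Units.val_inv_eq_inv_val, inv_pow]
        norm_cast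
    refine ⟨A.card, hA1, tcls_of_lam A (fun k => toPOmega hG (x k)) (fun k _ => (hR _ (mono_of_tdiag (hx k))).1)
      (fun k _ => ⟨R, (hR _ (mono_of_tdiag (hx k))).2⟩) (fun k hk l hl h => ?_) le_rfl⟩
    obtain ⟨k1, k2, k3⟩ := hA2 k hk
    obtain ⟨l1, l2, l3⟩ := hA2 l hl
    exact exp_inj k1 l1 (by omega) l2 l3 (hdvd k l h) (hdvd l k h.symm)

end main

section rows

open Cfsg.Agent.H563.XZ.OwnOmRow Cfsg.Agent.Nodes.WittInst

/-- **`PΩ⁺_{2m}(q)`, `m ≥ 4`** -/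
theorem cls_of_plus {p : ℕ} [hp : Fact p.Prime] {S : Type u} [Group S] [Finite S] (h11 : 11 ≤ p)
    (h : IsPOmegaPlusChar p S) : ∃ m, 4 * (p - 1) < m ^ 2 ∧ TCls p m S := by
  obtain ⟨F, _, _, _, m, hm, ⟨e⟩⟩ := h
  obtain ⟨m, rfl⟩ : ∃ k, m = k + 2 := ⟨m - 2, by omega⟩
  have hG : Good (plusForm (m + 2) F) := by
    apply good_of_finite (nondeg_plusForm (m + 2) F)
    rw [Module.finrank_fintype_fun_eq_card, Fintype.card_sum, Fintype.card_fin]
    omega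
  have hs := simple_of_good hG
  obtain ⟨n, h1, h2⟩ := tcls_main (W := wplus (m + 2) F) h11 (by omega) hG
    (sylow_D (wplus (m + 2) F) hG (amb_plus _) (adm_plus _))
  rw [coe_plusForm] at h2
  exact ⟨n, h1, Cfsg.Agent.H563.XZ.OwnSpRow.tcls_congr e.symm h2⟩

end rows

end Cfsg.Agent.H79.XZ
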