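import Mathlib

/-!
# S4791 + S4927, own characteristic: the invariant `Lam` (helper79)

`Lam p t = {k | ∃ u ≠ 1, u ^ p = 1, t u t⁻¹ = u ^ k}` is invariant under all automorphisms.

* `Lam_map`, `Lam_of_lift` : isomorphisms, central quotients of exponent 2;
* `eig_of_lam` : `t` diagonalizable on `V` in characteristic `p`, `k ∈ Lam t`: an eigenvector `v` of `t`, eigenvalue `μ`,
  with `u v - v` an eigenvector for `k μ`.
-/

set_option autoImplicit false

namespace Cfsg.Agent.H79.XZ

section group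

variable {S S' : Type*} [Group S] [Group S'] {p : ℕ}

/-- the exponents of `t` on elements of order `p` -/
def Lam (p : ℕ) {S : Type*} [Group S] (t : S) : Set ℕ :=
  {k | ∃ u : S, u ≠ 1 ∧ u ^ p = 1 ∧ t * u * t⁻¹ = u ^ k}

theorem mem_Lam {t : S} {k : ℕ} : k ∈ Lam p t ↔ ∃ u : S, u ≠ 1 ∧ u ^ p = 1 ∧ t * u * t⁻¹ = u ^ k := Iff.rfl

theorem Lam_map_le (σ : S ≃* S') (t : S) : Lam p t ⊆ Lam p (σ t) := by
  rintro k ⟨u, h1, h2, h3⟩
  refine ⟨σ u, ?_, ?_, ?_⟩
  · exact (MulEquiv.map_ne_one_iff σ).2 h1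
  · rw [← map_pow, h2, map_one]
  · rw [← map_inv, ← map_mul, ← map_mul, h3, map_pow]

theorem Lam_map (σ : S ≃* S') (t : S) : Lam p (σ t) = Lam p t := by
  refine le_antisymm ?_ (Lam_map_le σ t)
  have := Lam_map_le (p := p) σ.symm (σ t)
  rwa [MulEquiv.symm_apply_apply] at this

theorem eq_one_of_two_odd (hp : Odd p) {z : S} (h2 : z ^ 2 = 1) (h : z ^ p = 1) : z = 1 := by
  obtain ⟨m, rfl⟩ := hp
  rwa [pow_succ, pow_mul, h2, one_pow, one_mul] at h

theorem Lam_of_lift (π : S →* S') (hπ : Function.Surjective π) (hc : π.ker ≤ Subgroup.center S)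
    (h2 : ∀ z ∈ π.ker, z ^ 2 = 1) (hp : Odd p) (t : S) : Lam p (π t) = Lam p t := by
  apply le_antisymm
  · rintro k ⟨u', h1, hup, htu⟩
    obtain ⟨u, rfl⟩ := hπ u'
    -- normalise the lift
    have hz : u ^ p ∈ π.ker := by rw [MonoidHom.mem_ker, map_pow, hup]
    have hzc := Subgroup.mem_center_iff.1 (hc hz)
    have hz2 := h2 _ hz
    set z := u ^ p with hzdef
    have hzz : z * z = 1 := by rw [← pow_two, hz2]
    have hzp : z ^ p = z := by
      obtain ⟨m, rfl⟩ := hp
      rw [pow_succ, pow_mul, hz2, one_pow, one_mul]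
    have hcomm : Commute u z := hzc u
    have hu1 : (u * z) ^ p = 1 := by rw [hcomm.mul_pow, ← hzdef, hzp, hzz]
    have hπz : π z = 1 := hz
    refine ⟨u * z, ?_, hu1, ?_⟩
    · intro h
      apply h1
      have := congrArg π h
      rwa [map_mul, hπz, mul_one, map_one] at this
    · -- the discrepancy is central of exponent 2
      set w := t * (u * z) * t⁻¹ * ((u * z) ^ k)⁻¹ with hw
      have hwk : w ∈ π.ker := by
        rw [MonoidHom.mem_ker, hw]
        simp only [map_mul, map_inv, map_pow, hπz, mul_one]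
        rw [htu, mul_inv_cancel]
      have hwc := Subgroup.mem_center_iff.1 (hc hwk)
      have e1 : t * (u * z) * t⁻¹ = w * (u * z) ^ k := by rw [hw]; group
      have e2 : (t * (u * z) * t⁻¹) ^ p = 1 := by rw [conj_pow, hu1, mul_one, mul_inv_cancel]
      have e3 : Commute w ((u * z) ^ k) := (hwc _).symm
      rw [e1, e3.mul_pow, ← pow_mul, mul_comm k p, pow_mul, hu1, one_pow, mul_one] at e2
      rw [e1, eq_one_of_two_odd hp (h2 w hwk) e2, one_mul]
  · rintro k ⟨u, h1, hup, htu⟩
    refine ⟨π u, ?_, ?_, ?_⟩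
    · intro h
      exact h1 (eq_one_of_two_odd hp (h2 u h) hup)
    · rw [← map_pow, hup, map_one]
    · rw [← map_inv, ← map_mul, ← map_mul, htu, map_pow]

end group

section lin

open Module

variable {F V : Type*} [Field F] [AddCommGroup V] [Module F V] {p : ℕ}

theorem pow_fix {u : V ≃ₗ[F] V} {y : V} (h : u y = y) (k : ℕ) : (u ^ k) y = y := by
  induction k with
  | zero => rfl
  | succ k ih =>
    rw [pow_succ]
    show (u ^ k) (u y) = y
    rw [h, ih]

theorem pow_two_step {u : V ≃ₗ[F] V} {x : V} (h : u (u x - x) = u x - x) (k : ℕ) :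
    (u ^ k) x = x + (k : F) • (u x - x) := by
  induction k with
  | zero => simp
  | succ k ih =>
    have h1 : (u ^ (k + 1)) x = u ((u ^ k) x) := by rw [pow_succ']; rfl
    rw [h1, ih, map_add, map_smul, h, Nat.cast_succ, add_smul, one_smul]
    abel

/-- **the eigenvector** -/
theorem eig_of_lam [FiniteDimensional F V] [CharP F p] [Fact p.Prime] {t u : V ≃ₗ[F] V} {k : ℕ} (h1 : u ≠ 1)
    (hup : u ^ p = 1) (htu : t * u * t⁻¹ = u ^ k) (hd : ⨆ μ, Module.End.eigenspace (t : Module.End F V) μ = ⊤) :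
    ∃ (μ : F) (v : V), t v = μ • v ∧ u v ≠ v ∧ u (u v - v) = u v - v ∧ t (u v - v) = ((k : F) * μ) • (u v - v) := by
  have htu' : ∀ x, t (u x) = (u ^ k) (t x) := by
    intro x
    have e : t * u = u ^ k * t := by rw [← htu, inv_mul_cancel_right]
    exact congrArg (fun f : V ≃ₗ[F] V => f x) e
  have htu'' : ∀ x, u (t⁻¹ x) = t⁻¹ ((u ^ k) x) := by
    intro x
    have e : u * t⁻¹ = t⁻¹ * u ^ k := by rw [← htu]; group
    exact congrArg (fun f : V ≃ₗ[F] V => f x) e
  -- `K = ker (u - 1)²`
  let N : Module.End F V := (u : V →ₗ[F] V) - 1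
  have hN : ∀ x, N x = u x - x := fun _ => rfl
  let K : Submodule F V := LinearMap.ker (N * N)
  have hK : ∀ x, x ∈ K ↔ u (u x - x) = u x - x := by
    intro x
    rw [LinearMap.mem_ker, Module.End.mul_apply, hN, hN, sub_eq_zero]
  have hinv : ∀ x ∈ K, t⁻¹ x ∈ K := by
    intro x hx
    rw [hK] at hx ⊢
    have h3 : u ((k : F) • (u x - x)) = (k : F) • (u x - x) := by rw [map_smul, hx]
    have h2 : u (t⁻¹ x) - t⁻¹ x = t⁻¹ ((k : F) • (u x - x)) := by
      rw [htu'', pow_two_step hx, map_add, add_sub_cancel_left]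
    rw [h2, htu'', pow_fix h3]
  have hmap : K.map (t⁻¹ : V ≃ₗ[F] V).toLinearMap = K := by
    apply Submodule.eq_of_le_of_finrank_eq
    · rintro _ ⟨x, hx, rfl⟩
      exact hinv x hx
    · exact LinearEquiv.finrank_map_eq (t⁻¹ : V ≃ₗ[F] V) K
  have htK : ∀ x ∈ K, (t : Module.End F V) x ∈ K := by
    intro x hx
    rw [← hmap] at hx
    obtain ⟨y, hy, rfl⟩ := hx
    have : (t : Module.End F V) (((t⁻¹ : V ≃ₗ[F] V) : V →ₗ[F] V) y) = y := by
      show t (t⁻¹ y) = y
      have e : t * t⁻¹ = 1 := mul_inv_cancel t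
      exact congrArg (fun f : V ≃ₗ[F] V => f y) e
    rw [this]
    exact hy
  -- `K` is not contained in `ker (u - 1)`
  have hNp : N ^ p = 0 := by
    have h2 : N ^ p = (u : Module.End F V) ^ p - 1 ^ p := by
      have h4 : ((Polynomial.X : Polynomial F) - 1) ^ p = Polynomial.X ^ p - 1 ^ p := sub_pow_char _ _
      have h5 := congrArg (Polynomial.aeval (u : Module.End F V)) h4
      rw [map_pow, map_sub, map_sub, map_pow, map_pow, Polynomial.aeval_X, map_one] at h5
      exact h5
    have h3 : (u : Module.End F V) ^ p = 1 := by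
      ext x
      have : ∀ n : ℕ, ((u : Module.End F V) ^ n) x = (u ^ n) x := by
        intro n
        induction n with
        | zero => rfl
        | succ n ih => rw [pow_succ', pow_succ', Module.End.mul_apply, ih]; rfl
      rw [this, hup]
      rfl
    rw [h2, h3, one_pow, sub_self]
  have hN0 : N ≠ 0 := by
    intro h
    apply h1
    ext x
    have := hN x
    rw [h, LinearMap.zero_apply] at this
    exact (sub_eq_zero.1 this.symm)
  have hnle : ¬ K ≤ LinearMap.ker N := by
    intro hle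
    -- then `N^r = 0` implies `N^(r-1) = 0`
    have key : ∀ r, N ^ (r + 1) = 0 → N = 0 := by
      intro r
      induction r with
      | zero => intro h; rwa [zero_add, pow_one] at h
      | succ r ih =>
        intro h
        apply ih
        ext x
        have h3 : (N ^ r) x ∈ K := by
          rw [LinearMap.mem_ker, ← Module.End.mul_apply, ← pow_two, ← pow_add, add_comm 2 r]
          show (N ^ (r + 1 + 1)) x = 0
          rw [h]
          rfl
        have h4 := hle h3
        rw [LinearMap.mem_ker, ← Module.End.mul_apply, ← pow_succ'] at h4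
        rw [h4]
        rfl
    apply hN0
    have hp : p = (p - 1) + 1 := (Nat.succ_pred_eq_of_pos (Fact.out : p.Prime).pos).symm
    rw [hp] at hNp
    exact key _ hNp
  have hsup : K = ⨆ μ, K ⊓ Module.End.eigenspace (t : Module.End F V) μ := by
    have := Submodule.inf_iSup_genEigenspace (p := K) (f := (t : Module.End F V)) htK 1
    have hd' : ⨆ μ, Module.End.genEigenspace (t : Module.End F V) μ 1 = ⊤ := hd
    rw [hd', inf_top_eq] at this
    exact this
  obtain ⟨μ, hμ⟩ : ∃ μ, ¬ K ⊓ Module.End.eigenspace (t : Module.End F V) μ ≤ LinearMap.ker N := by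
    by_contra hcon
    push Not at hcon
    apply hnle
    rw [hsup]
    exact iSup_le hcon
  obtain ⟨v, ⟨hvK, hvμ⟩, hvN⟩ := Set.not_subset.1 hμ
  have h4 : t v = μ • v := Module.End.mem_eigenspace_iff.1 hvμ
  have h5 : u v ≠ v := by
    intro h
    apply hvN
    show v ∈ LinearMap.ker N
    rw [LinearMap.mem_ker, hN, h, sub_self]
  have h6 := (hK v).1 hvK
  refine ⟨μ, v, h4, h5, h6, ?_⟩
  rw [map_sub, htu', h4, map_smul, pow_two_step h6, ← smul_sub, add_sub_cancel_left, smul_smul, mul_comm]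

end lin

end Cfsg.Agent.H79.XZ
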