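import Cfsg.Agent.H79.XZ.OrthTor
import Cfsg.Agent.H712.XZ.OwnLie

/-!
# S4791 + S4927, own characteristic: `Lam` for orthogonal groups, and the count (helper79)

* `lam_two`, `lam_one` : the exponents of the two kinds of torus elements;
* `tcls_of_lam` : `TCls` from different sets `Lam`;
* `tcls_main` : enough classes for `p ≥ 11`.
-/

set_option autoImplicit false
set_option linter.unusedSectionVars false

namespace Cfsg.Agent.H79.XZ

open QuadraticMap Module
open Cfsg.Agent.LieClassical.OrthCore Cfsg.Agent.LieClassical.OrthTrans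
open Cfsg.Agent.TitsThree Cfsg.Agent.TitsThree.Siegel Cfsg.Agent.TitsThree.SiegelGen Cfsg.Agent.TitsThree.KSideO
open Cfsg.Agent.H712.XZ

variable {F V : Type*} [Field F] [AddCommGroup V] [Module F V] {Q : QuadraticForm F V} {m : ℕ} {W : WFrame (PO Q) m}
  {p : ℕ}

namespace TDiag

variable {c : Fin m → F} {t : V ≃ₗ[F] V}

theorem pow (h : TDiag W c t) (n : ℕ) : TDiag W (fun i => c i ^ n) (t ^ n) := by
  induction n with
  | zero =>
    refine ⟨fun i => ?_, fun i => ?_, fun i => ?_, fun w _ => rfl⟩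
    · rw [pow_zero]; exact one_ne_zero
    · rw [pow_zero, pow_zero, one_smul]; rfl
    · rw [pow_zero, pow_zero, inv_one, one_smul]; rfl
  | succ n ih =>
    have := ih.mul h
    simp only [← pow_succ] at this
    exact this

theorem eq_one (h : TDiag W c t) (h1 : ∀ i, c i = 1) : t = 1 := by
  ext v
  obtain ⟨a, b, w, hw, rfl⟩ := W.span v
  rw [map_add, map_add, map_sum, map_sum, h.z w hw]
  show _ = ∑ i, a i • W.e i + ∑ i, b i • W.f i + w
  congr 1
  congr 1
  · refine Finset.sum_congr rfl fun i _ => ?_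
    rw [map_smul, h.e, h1, one_smul]
  · refine Finset.sum_congr rfl fun i _ => ?_
    rw [map_smul, h.f, h1, inv_one, one_smul]

/-- eigenvectors on one line -/
theorem line_f (h : TDiag W c t) {i : Fin m} {μ : F} {v : V} (hv : t v = μ • v) (h1 : μ ≠ 1) (hc : ∀ k, c k ≠ μ)
    (hc' : ∀ k, k ≠ i → (c k)⁻¹ ≠ μ) : ∃ x : F, v = x • W.f i := by
  obtain ⟨a, b, w, hw, rfl⟩ := W.span v
  obtain ⟨ha, hb, hw0⟩ := h.coef hw hv
  have e1 : ∀ k, a k = 0 := fun k => (mul_eq_zero.1 (ha k)).resolve_right fun h => hc k (sub_eq_zero.1 h)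
  have e2 : ∀ k, k ≠ i → b k = 0 := fun k hk =>
    (mul_eq_zero.1 (hb k)).resolve_right fun h => hc' k hk (sub_eq_zero.1 h)
  have e3 : w = 0 := (smul_eq_zero.1 hw0).resolve_left fun h => h1 (sub_eq_zero.1 h).symm
  refine ⟨b i, ?_⟩
  rw [e3, add_zero]
  simp only [e1, zero_smul, Finset.sum_const_zero, zero_add]
  rw [Finset.sum_eq_single i]
  · intro k _ hk
    rw [e2 k hk, zero_smul]
  · intro h
    exact absurd (Finset.mem_univ i) h

theorem line_e (h : TDiag W c t) {i : Fin m} {μ : F} {v : V} (hv : t v = μ • v) (h1 : μ ≠ 1) (hc : ∀ k, (c k)⁻¹ ≠ μ)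
    (hc' : ∀ k, k ≠ i → c k ≠ μ) : ∃ x : F, v = x • W.e i := by
  obtain ⟨a, b, w, hw, rfl⟩ := W.span v
  obtain ⟨ha, hb, hw0⟩ := h.coef hw hv
  have e1 : ∀ k, b k = 0 := fun k => (mul_eq_zero.1 (hb k)).resolve_right fun h => hc k (sub_eq_zero.1 h)
  have e2 : ∀ k, k ≠ i → a k = 0 := fun k hk =>
    (mul_eq_zero.1 (ha k)).resolve_right fun h => hc' k hk (sub_eq_zero.1 h)
  have e3 : w = 0 := (smul_eq_zero.1 hw0).resolve_left fun h => h1 (sub_eq_zero.1 h).symm
  refine ⟨a i, ?_⟩
  rw [e3, add_zero]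
  simp only [e1, zero_smul, Finset.sum_const_zero, add_zero]
  rw [Finset.sum_eq_single i]
  · intro k _ hk
    rw [e2 k hk, zero_smul]
  · intro h
    exact absurd (Finset.mem_univ i) h

end TDiag

section lam

variable [CharP F p] [Fact p.Prime] [FiniteDimensional F V]

/-- an element of `Lam` -/
theorem exists_eig {t : ↥(E Q)} {n : ℕ} (hn : n ∈ Lam p t)
    (hd : ⨆ μ, Module.End.eigenspace ((t : V ≃ₗ[F] V) : Module.End F V) μ = ⊤) :
    ∃ (μ : F) (v w : V), v ≠ 0 ∧ w ≠ 0 ∧ (t : V ≃ₗ[F] V) v = μ • v ∧ (t : V ≃ₗ[F] V) w = ((n : F) * μ) • w ∧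
      Q (v + w) = Q v := by
  obtain ⟨u, h1, h2, h3⟩ := hn
  obtain ⟨μ, v, hv, huv, -, hw⟩ := eig_of_lam (t := (t : V ≃ₗ[F] V)) (u := (u : V ≃ₗ[F] V)) (k := n)
    (fun h => h1 (Subtype.ext h)) (congrArg Subtype.val h2) (congrArg Subtype.val h3) hd
  refine ⟨μ, v, (u : V ≃ₗ[F] V) v - v, ?_, sub_ne_zero.2 huv, hv, hw, ?_⟩
  · rintro rfl
    exact huv (map_zero _)
  · rw [add_sub_cancel, mem_O.1 (E_le_O u.2)]

/-- **the exponents of the elements with two equal entries** -/
theorem lam_two {i j k : Fin m} (hij : i ≠ j) (hik : i ≠ k) (hjk : j ≠ k) {a : F} (ha : a ≠ 0) {t : ↥(E Q)}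
    (ht : TDiag W (fun k => (if k = i then a else 1) * (if k = j then a else 1)) t) :
    Lam p t = {n : ℕ | (n : F) = 1 ∨ (n : F) = a ∨ (n : F) = a⁻¹ ∨ (n : F) = a ^ 2 ∨ (n : F) = (a⁻¹) ^ 2} := by
  have hc : ∀ l, (if l = i then a else 1) * (if l = j then a else 1) = 1 ∨
      (if l = i then a else 1) * (if l = j then a else 1) = a := by
    intro l
    by_cases h1 : l = i
    · rw [if_pos h1, if_neg (by rw [h1]; exact hij), mul_one]
      exact Or.inr rfl
    · rw [if_neg h1, one_mul]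
      split_ifs
      · exact Or.inr rfl
      · exact Or.inl rfl
  have heig : ∀ {μ : F} {v : V}, (t : V ≃ₗ[F] V) v = μ • v → v ≠ 0 → μ = 1 ∨ μ = a ∨ μ = a⁻¹ := by
    intro μ v hv h0
    rcases ht.eig hv h0 with h | ⟨l, h | h⟩
    · exact Or.inl h
    · rcases hc l with h1 | h1
      · exact Or.inl (h.trans h1)
      · exact Or.inr (Or.inl (h.trans h1))
    · rcases hc l with h1 | h1
      · exact Or.inl (by rw [h, h1, inv_one])
      · exact Or.inr (Or.inr (by rw [h, h1]))
  have hei : (t : V ≃ₗ[F] V) (W.e i) = a • W.e i := by rw [ht.e, if_pos rfl, if_neg hij, mul_one]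
  have hej : (t : V ≃ₗ[F] V) (W.e j) = a • W.e j := by rw [ht.e, if_pos rfl, if_neg (Ne.symm hij), one_mul]
  have hek : (t : V ≃ₗ[F] V) (W.e k) = (1 : F) • W.e k := by
    rw [ht.e, if_neg (Ne.symm hik), if_neg (Ne.symm hjk), one_mul]
  have hfi : (t : V ≃ₗ[F] V) (W.f i) = a⁻¹ • W.f i := by rw [ht.f, if_pos rfl, if_neg hij, mul_one]
  have hfj : (t : V ≃ₗ[F] V) (W.f j) = a⁻¹ • W.f j := by rw [ht.f, if_pos rfl, if_neg (Ne.symm hij), one_mul]
  apply Set.Subset.antisymm
  · intro n hn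
    obtain ⟨μ, v, w, hv0, hw0, hv, hw, -⟩ := exists_eig hn ht.sup
    have h1 := heig hv hv0
    have h2 := heig hw hw0
    show (n : F) = 1 ∨ (n : F) = a ∨ (n : F) = a⁻¹ ∨ (n : F) = a ^ 2 ∨ (n : F) = (a⁻¹) ^ 2
    rcases h1 with rfl | rfl | rfl
    · rw [mul_one] at h2
      tauto
    · rcases h2 with h2 | h2 | h2
      · right; right; left
        exact eq_inv_of_mul_eq_one_left h2
      · left
        exact mul_right_cancel₀ ha (h2.trans (one_mul _).symm)
      · right; right; right; right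
        rw [pow_two]
        field_simp
        field_simp at h2
        linear_combination h2
    · rcases h2 with h2 | h2 | h2
      · right; left
        have := eq_inv_of_mul_eq_one_left h2
        rwa [inv_inv] at this
      · right; right; right; left
        field_simp at h2
        linear_combination h2
      · left
        exact mul_right_cancel₀ (inv_ne_zero ha) (h2.trans (one_mul _).symm)
  · intro n hn
    have hn' : (n : F) = 1 ∨ (n : F) = a ∨ (n : F) = a⁻¹ ∨ (n : F) = a ^ 2 ∨ (n : F) = (a⁻¹) ^ 2 := hn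
    have e0 : ∀ l : Fin m, W.e l ≠ 0 := fun l => (hyp l).left_ne
    have f0 : ∀ l : Fin m, W.f l ≠ 0 := fun l => (hyp l).symm.left_ne
    rcases hn' with h | h | h | h | h
    · -- `e i`, `f j`
      refine mem_of_siegel (x := W.e i) (y := W.f j) (x' := W.f i) (W_e i) (W_f j) (by rw [W_ef, if_neg hij])
        (by rw [W_ef, if_pos rfl]) (W_ff j i) (f0 j) hei hfj ?_
      rw [h, mul_inv_cancel₀ ha]
    · refine mem_of_siegel (x := W.e i) (y := W.e k) (x' := W.f i) (W_e i) (W_e k) (W_ee i k)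
        (by rw [W_ef, if_pos rfl]) (by rw [W_ef, if_neg (Ne.symm hik)]) (e0 k) hei hek ?_
      rw [h, mul_one]
    · refine mem_of_siegel (x := W.f i) (y := W.e k) (x' := W.e i) (W_f i) (W_e k) (by rw [W_fe, if_neg hik])
        (by rw [W_fe, if_pos rfl]) (W_ee k i) (e0 k) hfi hek ?_
      rw [h, mul_one]
    · refine mem_of_siegel (x := W.e i) (y := W.e j) (x' := W.f i) (W_e i) (W_e j) (W_ee i j)
        (by rw [W_ef, if_pos rfl]) (by rw [W_ef, if_neg (Ne.symm hij)]) (e0 j) hei hej ?_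
      rw [h, pow_two]
    · refine mem_of_siegel (x := W.f i) (y := W.f j) (x' := W.e i) (W_f i) (W_f j) (W_ff i j)
        (by rw [W_fe, if_pos rfl]) (by rw [W_fe, if_neg (Ne.symm hij)]) (f0 j) hfi hfj ?_
      rw [h, pow_two]

/-- **the exponents of the elements with one entry** -/
theorem lam_one {i j k : Fin m} (hij : i ≠ j) (hik : i ≠ k) (hjk : j ≠ k) {b : F} (hb : b ≠ 0) (hb1 : b ≠ 1)
    (hb2 : b ^ 2 ≠ 1) {t : ↥(E Q)} (ht : TDiag W (fun k => if k = i then b else 1) t) :
    Lam p t = {n : ℕ | (n : F) = 1 ∨ (n : F) = b ∨ (n : F) = b⁻¹} := by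
  have hbi : b ≠ b⁻¹ := fun h => hb2 (by rw [pow_two]; nth_rewrite 2 [h]; exact mul_inv_cancel₀ hb)
  have hbi1 : b⁻¹ ≠ 1 := fun h => hb1 (inv_eq_one.1 h)
  have hc : ∀ l, (if l = i then b else 1) = 1 ∨ (if l = i then b else 1) = b := by
    intro l
    split_ifs
    · exact Or.inr rfl
    · exact Or.inl rfl
  have heig : ∀ {μ : F} {v : V}, (t : V ≃ₗ[F] V) v = μ • v → v ≠ 0 → μ = 1 ∨ μ = b ∨ μ = b⁻¹ := by
    intro μ v hv h0
    rcases ht.eig hv h0 with h | ⟨l, h | h⟩
    · exact Or.inl h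
    · rcases hc l with h1 | h1
      · exact Or.inl (h.trans h1)
      · exact Or.inr (Or.inl (h.trans h1))
    · rcases hc l with h1 | h1
      · exact Or.inl (by rw [h, h1, inv_one])
      · exact Or.inr (Or.inr (by rw [h, h1]))
  have hle : ∀ {v : V}, (t : V ≃ₗ[F] V) v = b • v → ∃ x : F, v = x • W.e i := by
    intro v hv
    refine ht.line_e hv hb1 (fun l => ?_) (fun l hl => ?_)
    · show (if l = i then b else 1)⁻¹ ≠ b
      split_ifs
      · exact hbi.symm
      · rw [inv_one]; exact hb1.symm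
    · show (if l = i then b else 1) ≠ b
      rw [if_neg hl]
      exact hb1.symm
  have hlf : ∀ {v : V}, (t : V ≃ₗ[F] V) v = b⁻¹ • v → ∃ x : F, v = x • W.f i := by
    intro v hv
    refine ht.line_f hv hbi1 (fun l => ?_) (fun l hl => ?_)
    · show (if l = i then b else 1) ≠ b⁻¹
      split_ifs
      · exact hbi
      · exact hbi1.symm
    · show (if l = i then b else 1)⁻¹ ≠ b⁻¹
      rw [if_neg hl, inv_one]
      exact hbi1.symm
  have hQ : ∀ x y : F, Q (x • W.e i + y • W.f i) = x * y := by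
    intro x y
    rw [Q_add, QuadraticMap.map_smul, QuadraticMap.map_smul, W_e, W_f, polar_smul_left, polar_smul_right, W_ef,
      if_pos rfl]
    simp
  have hei : (t : V ≃ₗ[F] V) (W.e i) = b • W.e i := by rw [ht.e, if_pos rfl]
  have hej : (t : V ≃ₗ[F] V) (W.e j) = (1 : F) • W.e j := by rw [ht.e, if_neg (Ne.symm hij)]
  have hek : (t : V ≃ₗ[F] V) (W.e k) = (1 : F) • W.e k := by rw [ht.e, if_neg (Ne.symm hik)]
  have hfi : (t : V ≃ₗ[F] V) (W.f i) = b⁻¹ • W.f i := by rw [ht.f, if_pos rfl]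
  apply Set.Subset.antisymm
  · intro n hn
    obtain ⟨μ, v, w, hv0, hw0, hv, hw, hQvw⟩ := exists_eig hn ht.sup
    have h1 := heig hv hv0
    have h2 := heig hw hw0
    show (n : F) = 1 ∨ (n : F) = b ∨ (n : F) = b⁻¹
    rcases h1 with rfl | rfl | rfl
    · rw [mul_one] at h2
      tauto
    · rcases h2 with h2 | h2 | h2
      · right; right
        exact eq_inv_of_mul_eq_one_left h2
      · left
        exact mul_right_cancel₀ hb (h2.trans (one_mul _).symm)
      · exfalso
        rw [h2] at hw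
        obtain ⟨x, rfl⟩ := hle hv
        obtain ⟨y, rfl⟩ := hlf hw
        rw [hQ, QuadraticMap.map_smul, W_e, smul_zero] at hQvw
        rcases mul_eq_zero.1 hQvw with h | h
        · exact hv0 (by rw [h, zero_smul])
        · exact hw0 (by rw [h, zero_smul])
    · rcases h2 with h2 | h2 | h2
      · right; left
        have := eq_inv_of_mul_eq_one_left h2
        rwa [inv_inv] at this
      · exfalso
        rw [h2] at hw
        obtain ⟨x, rfl⟩ := hlf hv
        obtain ⟨y, rfl⟩ := hle hw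
        rw [add_comm, hQ, QuadraticMap.map_smul, W_f, smul_zero] at hQvw
        rcases mul_eq_zero.1 hQvw with h | h
        · exact hw0 (by rw [h, zero_smul])
        · exact hv0 (by rw [h, zero_smul])
      · left
        exact mul_right_cancel₀ (inv_ne_zero hb) (h2.trans (one_mul _).symm)
  · intro n hn
    have hn' : (n : F) = 1 ∨ (n : F) = b ∨ (n : F) = b⁻¹ := hn
    have e0 : ∀ l : Fin m, W.e l ≠ 0 := fun l => (hyp l).left_ne
    rcases hn' with h | h | h
    · refine mem_of_siegel (x := W.e j) (y := W.e k) (x' := W.f j) (W_e j) (W_e k) (W_ee j k)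
        (by rw [W_ef, if_pos rfl]) (by rw [W_ef, if_neg (Ne.symm hjk)]) (e0 k) hej hek ?_
      rw [h, mul_one]
    · refine mem_of_siegel (x := W.e i) (y := W.e k) (x' := W.f i) (W_e i) (W_e k) (W_ee i k)
        (by rw [W_ef, if_pos rfl]) (by rw [W_ef, if_neg (Ne.symm hik)]) (e0 k) hei hek ?_
      rw [h, mul_one]
    · refine mem_of_siegel (x := W.f i) (y := W.e k) (x' := W.e i) (W_f i) (W_e k) (by rw [W_fe, if_neg hik])
        (by rw [W_fe, if_pos rfl]) (W_ee k i) (e0 k) hfi hek ?_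
      rw [h, mul_one]

end lam

end Cfsg.Agent.H79.XZ
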