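import Cfsg.Agent.H79.XZ.Lam
import Cfsg.Agent.H107.NB.OrthTor

/-!
# S4791 + S4927, own characteristic: torus elements of orthogonal groups (helper79)

`W` a Witt frame of `(V, Q)`, `TDiag W c t` : `t (e i) = c i • e i`, `t (f i) = (c i)⁻¹ • f i`, `t = 1` on `V0`.

* `tdiag_sup` : `t` is diagonalizable; `coef` : the coefficients of an eigenvector;
* `mem_of_siegel` : siegel elements give members of `Lam`;
* `exists_two` : `c = a` on two indices; `exists_sq` : `c = b ^ 2` on one index, both in `E Q`.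
-/

set_option autoImplicit false
set_option linter.unusedSectionVars false

namespace Cfsg.Agent.H79.XZ

open QuadraticMap Module
open Cfsg.Agent.LieClassical.OrthCore Cfsg.Agent.LieClassical.OrthTrans
open Cfsg.Agent.TitsThree Cfsg.Agent.TitsThree.Siegel Cfsg.Agent.TitsThree.SiegelGen Cfsg.Agent.TitsThree.KSideO

variable {F V : Type*} [Field F] [AddCommGroup V] [Module F V] {Q : QuadraticForm F V} {m : ℕ} {W : WFrame (PO Q) m}

section frame

theorem W_ee (i j : Fin m) : polar Q (W.e i) (W.e j) = 0 := W.ee i j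
theorem W_ff (i j : Fin m) : polar Q (W.f i) (W.f j) = 0 := W.ff i j
theorem W_ef (i j : Fin m) : polar Q (W.e i) (W.f j) = if i = j then 1 else 0 := W.ef i j
theorem W_fe (i j : Fin m) : polar Q (W.f i) (W.e j) = if i = j then 1 else 0 := by
  rw [polar_comm, W_ef]
  simp only [eq_comm]
theorem W_e (i : Fin m) : Q (W.e i) = 0 := (sing_iff Q).1 (W.e_sing i)
theorem W_f (i : Fin m) : Q (W.f i) = 0 := (sing_iff Q).1 (W.f_sing i)
theorem W_V0e {w : V} (hw : w ∈ W.V0) (i : Fin m) : polar Q w (W.e i) = 0 := W.V0e w hw i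
theorem W_V0f {w : V} (hw : w ∈ W.V0) (i : Fin m) : polar Q w (W.f i) = 0 := W.V0f w hw i

theorem hyp (i : Fin m) : Hyp Q (W.e i) (W.f i) := ⟨W_e i, W_f i, by rw [W_ef, if_pos rfl]⟩

theorem polar_f (a b : Fin m → F) {w : V} (hw : w ∈ W.V0) (l : Fin m) :
    polar Q (∑ i, a i • W.e i + ∑ i, b i • W.f i + w) (W.f l) = a l := by
  have h1 : ∀ x y : V, polar Q (x + y) (W.f l) = polar Q x (W.f l) + polar Q y (W.f l) := fun x y => polar_add_left Q x y _
  have h2 : ∀ (s : Finset (Fin m)) (g : Fin m → V), polar Q (∑ i ∈ s, g i) (W.f l) = ∑ i ∈ s, polar Q (g i) (W.f l) := by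
    intro s g
    exact map_sum ((polarBilin Q).flip (W.f l)) g s
  rw [h1, h1, h2, h2, W_V0f hw, add_zero, Finset.sum_eq_single l, Finset.sum_eq_zero, add_zero, polar_smul_left, W_ef,
    if_pos rfl, smul_eq_mul, mul_one]
  · intro i _
    rw [polar_smul_left, W_ff, smul_zero]
  · intro i _ hi
    rw [polar_smul_left, W_ef, if_neg hi, smul_zero]
  · intro h
    exact absurd (Finset.mem_univ l) h

theorem polar_e (a b : Fin m → F) {w : V} (hw : w ∈ W.V0) (l : Fin m) :
    polar Q (∑ i, a i • W.e i + ∑ i, b i • W.f i + w) (W.e l) = b l := by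
  have h1 : ∀ x y : V, polar Q (x + y) (W.e l) = polar Q x (W.e l) + polar Q y (W.e l) := fun x y => polar_add_left Q x y _
  have h2 : ∀ (s : Finset (Fin m)) (g : Fin m → V), polar Q (∑ i ∈ s, g i) (W.e l) = ∑ i ∈ s, polar Q (g i) (W.e l) := by
    intro s g
    exact map_sum ((polarBilin Q).flip (W.e l)) g s
  rw [h1, h1, h2, h2, W_V0e hw, add_zero, Finset.sum_eq_zero, zero_add, Finset.sum_eq_single l, polar_smul_left, W_fe,
    if_pos rfl, smul_eq_mul, mul_one]
  · intro i _ hi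
    rw [polar_smul_left, W_fe, if_neg hi, smul_zero]
  · intro h
    exact absurd (Finset.mem_univ l) h
  · intro i _
    rw [polar_smul_left, W_ee, smul_zero]

end frame

/-- a torus element -/
structure TDiag (W : WFrame (PO Q) m) (c : Fin m → F) (t : V ≃ₗ[F] V) : Prop where
  ne : ∀ i, c i ≠ 0
  e : ∀ i, t (W.e i) = c i • W.e i
  f : ∀ i, t (W.f i) = (c i)⁻¹ • W.f i
  z : ∀ w ∈ W.V0, t w = w

namespace TDiag

variable {c c' : Fin m → F} {t t' : V ≃ₗ[F] V}

theorem mul (h : TDiag W c t) (h' : TDiag W c' t') : TDiag W (fun i => c i * c' i) (t * t') := by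
  refine ⟨fun i => mul_ne_zero (h.ne i) (h'.ne i), fun i => ?_, fun i => ?_, fun w hw => ?_⟩
  · show t (t' _) = _
    rw [h'.e, map_smul, h.e, smul_smul, mul_comm]
  · show t (t' _) = _
    rw [h'.f, map_smul, h.f, smul_smul, mul_inv, mul_comm]
  · show t (t' _) = _
    rw [h'.z w hw, h.z w hw]

theorem sup (h : TDiag W c t) : ⨆ μ, Module.End.eigenspace (t : Module.End F V) μ = ⊤ := by
  rw [eq_top_iff]
  intro v _
  obtain ⟨a, b, w, hw, rfl⟩ := W.span v
  have hmem : ∀ (μ : F) (x : V), t x = μ • x → x ∈ ⨆ μ, Module.End.eigenspace (t : Module.End F V) μ := by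
    intro μ x hx
    exact Submodule.mem_iSup_of_mem μ (Module.End.mem_eigenspace_iff.2 hx)
  refine Submodule.add_mem _ (Submodule.add_mem _ ?_ ?_) ?_
  · exact Submodule.sum_mem _ fun i _ => Submodule.smul_mem _ _ (hmem _ _ (h.e i))
  · exact Submodule.sum_mem _ fun i _ => Submodule.smul_mem _ _ (hmem _ _ (h.f i))
  · exact hmem 1 w (by rw [h.z w hw, one_smul])

/-- the coefficients of an eigenvector -/
theorem coef (h : TDiag W c t) {μ : F} {a b : Fin m → F} {w : V} (hw : w ∈ W.V0)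
    (hv : t (∑ i, a i • W.e i + ∑ i, b i • W.f i + w) = μ • (∑ i, a i • W.e i + ∑ i, b i • W.f i + w)) :
    (∀ i, a i * (c i - μ) = 0) ∧ (∀ i, b i * ((c i)⁻¹ - μ) = 0) ∧ (1 - μ) • w = 0 := by
  have e1 : t (∑ i, a i • W.e i + ∑ i, b i • W.f i + w) - μ • (∑ i, a i • W.e i + ∑ i, b i • W.f i + w) =
      ∑ i, (a i * (c i - μ)) • W.e i + ∑ i, (b i * ((c i)⁻¹ - μ)) • W.f i + (1 - μ) • w := by
    rw [map_add, map_add, map_sum, map_sum, h.z w hw, smul_add, smul_add, Finset.smul_sum, Finset.smul_sum]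
    have e2 : ∑ i, t (a i • W.e i) = ∑ i, (a i * c i) • W.e i := by
      refine Finset.sum_congr rfl fun i _ => ?_
      rw [map_smul, h.e, smul_smul]
    have e3 : ∑ i, t (b i • W.f i) = ∑ i, (b i * (c i)⁻¹) • W.f i := by
      refine Finset.sum_congr rfl fun i _ => ?_
      rw [map_smul, h.f, smul_smul]
    have e4 : ∑ i, (a i * (c i - μ)) • W.e i = ∑ i, (a i * c i) • W.e i - ∑ i, μ • a i • W.e i := by
      rw [← Finset.sum_sub_distrib]
      refine Finset.sum_congr rfl fun i _ => ?_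
      rw [mul_sub, sub_smul, smul_smul, mul_comm μ]
    have e5 : ∑ i, (b i * ((c i)⁻¹ - μ)) • W.f i = ∑ i, (b i * (c i)⁻¹) • W.f i - ∑ i, μ • b i • W.f i := by
      rw [← Finset.sum_sub_distrib]
      refine Finset.sum_congr rfl fun i _ => ?_
      rw [mul_sub, sub_smul, smul_smul, mul_comm μ]
    rw [e2, e3, e4, e5, sub_smul, one_smul]
    abel
  rw [hv, sub_self] at e1
  have hw' : (1 - μ) • w ∈ W.V0 := W.V0.smul_mem _ hw
  have h1 : ∀ i, a i * (c i - μ) = 0 := by
    intro i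
    have := polar_f (fun i => a i * (c i - μ)) (fun i => b i * ((c i)⁻¹ - μ)) hw' i
    rw [← e1, polar_zero_left] at this
    exact this.symm
  have h2 : ∀ i, b i * ((c i)⁻¹ - μ) = 0 := by
    intro i
    have := polar_e (fun i => a i * (c i - μ)) (fun i => b i * ((c i)⁻¹ - μ)) hw' i
    rw [← e1, polar_zero_left] at this
    exact this.symm
  refine ⟨h1, h2, ?_⟩
  simp only [h1, h2, zero_smul, Finset.sum_const_zero, zero_add] at e1
  exact e1.symm

/-- the eigenvalues -/
theorem eig (h : TDiag W c t) {μ : F} {v : V} (hv : t v = μ • v) (h0 : v ≠ 0) :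
    μ = 1 ∨ ∃ i, μ = c i ∨ μ = (c i)⁻¹ := by
  obtain ⟨a, b, w, hw, rfl⟩ := W.span v
  obtain ⟨h1, h2, h3⟩ := h.coef hw hv
  by_contra hcon
  push Not at hcon
  obtain ⟨h4, h5⟩ := hcon
  apply h0
  have e1 : ∀ i, a i = 0 := fun i => (mul_eq_zero.1 (h1 i)).resolve_right fun h => (h5 i).1 (sub_eq_zero.1 h).symm
  have e2 : ∀ i, b i = 0 := fun i => (mul_eq_zero.1 (h2 i)).resolve_right fun h => (h5 i).2 (sub_eq_zero.1 h).symm
  have e3 : w = 0 := (smul_eq_zero.1 h3).resolve_left fun h => h4 (sub_eq_zero.1 h).symm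
  simp only [e1, e2, e3, zero_smul, Finset.sum_const_zero, add_zero]

end TDiag

section siegel

theorem siegel_pow {x y : V} (hx : Q x = 0) (hxy : polar Q x y = 0) (k : ℕ) (h : polar Q x ((k : F) • y) = 0) :
    siegel Q x y hx hxy ^ k = siegel Q x ((k : F) • y) hx h := by
  induction k with
  | zero =>
    ext v
    rw [siegel_apply]
    simp
  | succ k ih =>
    have h1 : polar Q x ((k : F) • y) = 0 := by rw [polar_smul_right, hxy, smul_zero]
    have h2 : polar Q x ((k : F) • y + y) = 0 := by rw [polar_add_right, h1, hxy, add_zero]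
    rw [pow_succ, ih h1, siegel_mul hx h1 hxy h2]
    congr 1
    rw [Nat.cast_succ, add_smul, one_smul]

/-- **siegel elements** -/
theorem mem_of_siegel {p : ℕ} [CharP F p] {t : ↥(E Q)} {x y x' : V} {α β : F} (hx : Q x = 0) (hy : Q y = 0)
    (hxy : polar Q x y = 0) (hx' : polar Q x x' = 1) (hyx' : polar Q y x' = 0) (hy0 : y ≠ 0)
    (htx : (t : V ≃ₗ[F] V) x = α • x) (hty : (t : V ≃ₗ[F] V) y = β • y) {k : ℕ} (hk : (k : F) = α * β) :
    k ∈ Lam p t := by
  have hk' : polar Q x ((k : F) • y) = 0 := by rw [polar_smul_right, hxy, smul_zero]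
  have hp' : polar Q x ((p : F) • y) = 0 := by rw [polar_smul_right, hxy, smul_zero]
  refine ⟨⟨siegel Q x y hx hxy, siegel_mem_E hx hxy⟩, ?_, ?_, ?_⟩
  · intro h
    have h1 : siegel Q x y hx hxy x' = x' := by
      have := congrArg (fun g : ↥(E Q) => (g : V ≃ₗ[F] V) x') h
      exact this
    rw [siegel_apply, hx', hyx', one_smul, zero_smul, sub_zero, hy, zero_mul, zero_smul, sub_zero] at h1
    exact hy0 (by simpa using h1)
  · apply Subtype.ext
    show siegel Q x y hx hxy ^ p = 1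
    rw [siegel_pow hx hxy p hp']
    ext v
    rw [siegel_apply, CharP.cast_eq_zero, zero_smul]
    simp
  · apply Subtype.ext
    have hx1 : Q ((t : V ≃ₗ[F] V) x) = 0 := by rw [mem_O.1 (E_le_O t.2), hx]
    have hxy1 : polar Q ((t : V ≃ₗ[F] V) x) ((t : V ≃ₗ[F] V) y) = 0 := by rw [polar_map (E_le_O t.2), hxy]
    show (t : V ≃ₗ[F] V) * siegel Q x y hx hxy * (t : V ≃ₗ[F] V)⁻¹ = siegel Q x y hx hxy ^ k
    rw [siegel_conj (E_le_O t.2) hx hxy hx1 hxy1, siegel_pow hx hxy k hk']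
    ext v
    rw [siegel_apply, siegel_apply, htx, hty, hk, QuadraticMap.map_smul, QuadraticMap.map_smul, hy]
    simp only [polar_smul_left, smul_eq_mul, smul_smul, mul_zero, zero_mul, zero_smul, sub_zero]
    congr 1
    · congr 1
      congr 1
      ring
    · congr 1
      ring

end siegel

section exist

theorem refl_hyp {x y : V} (h : Hyp Q x y) {c : F} (hc : c ≠ 0) (hv : Q (x - c • y) ≠ 0) :
    refl Q (x - c • y) hv x = c • y ∧ refl Q (x - c • y) hv y = c⁻¹ • x ∧
      ∀ z, polar Q x z = 0 → polar Q y z = 0 → refl Q (x - c • y) hv z = z := by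
  have hQ : Q (x - c • y) = -c := by
    rw [sub_eq_add_neg, ← neg_smul, Q_add, QuadraticMap.map_smul, h.left, h.right, polar_smul_right, h.pair,
      smul_zero, smul_eq_mul]
    ring
  have hx : polar Q (x - c • y) x = -c := by
    rw [polar_sub_left, polar_smul_left, polar_self_of_sing h.left, h.pair', smul_eq_mul]
    ring
  have hy : polar Q (x - c • y) y = 1 := by
    rw [polar_sub_left, polar_smul_left, polar_self_of_sing h.right, h.pair, smul_zero, sub_zero]
  refine ⟨?_, ?_, ?_⟩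
  · rw [refl_apply, hQ, hx, inv_neg, neg_mul_neg, inv_mul_cancel₀ hc, one_smul]
    abel
  · rw [refl_apply, hQ, hy, mul_one, inv_neg, neg_smul, smul_sub, smul_smul, inv_mul_cancel₀ hc, one_smul]
    abel
  · intro z hz1 hz2
    rw [refl_apply, polar_sub_left, polar_smul_left, hz1, hz2, smul_zero, sub_zero, mul_zero, zero_smul, sub_zero]

theorem Q_sub {x y : V} (h : Hyp Q x y) (c : F) : Q (x - c • y) = -c := by
  rw [sub_eq_add_neg, ← neg_smul, Q_add, QuadraticMap.map_smul, h.left, h.right, polar_smul_right, h.pair,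
    smul_zero, smul_eq_mul]
  ring

/-- the reflection swapping `e i` and `c • f i` -/
noncomputable def rr (W : WFrame (PO Q) m) (i : Fin m) (c : F) (hc : c ≠ 0) : V ≃ₗ[F] V :=
  refl Q (W.e i - c • W.f i) (by rw [Q_sub (hyp i)]; exact neg_ne_zero.2 hc)

theorem rr_mem (i : Fin m) {c : F} (hc : c ≠ 0) : rr W i c hc ∈ O Q := refl_mem_O _

theorem rr_e (i : Fin m) {c : F} (hc : c ≠ 0) : rr W i c hc (W.e i) = c • W.f i := (refl_hyp (hyp i) hc _).1
theorem rr_f (i : Fin m) {c : F} (hc : c ≠ 0) : rr W i c hc (W.f i) = c⁻¹ • W.e i := (refl_hyp (hyp i) hc _).2.1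
theorem rr_z (i : Fin m) {c : F} (hc : c ≠ 0) {z : V} (h1 : polar Q (W.e i) z = 0) (h2 : polar Q (W.f i) z = 0) :
    rr W i c hc z = z := (refl_hyp (hyp i) hc _).2.2 z h1 h2

theorem rr_e' {i j : Fin m} (hij : i ≠ j) {c : F} (hc : c ≠ 0) : rr W i c hc (W.e j) = W.e j :=
  rr_z i hc (W_ee i j) (by rw [W_fe, if_neg hij])
theorem rr_f' {i j : Fin m} (hij : i ≠ j) {c : F} (hc : c ≠ 0) : rr W i c hc (W.f j) = W.f j :=
  rr_z i hc (by rw [W_ef, if_neg hij]) (W_ff i j)
theorem rr_V0 (i : Fin m) {c : F} (hc : c ≠ 0) {w : V} (hw : w ∈ W.V0) : rr W i c hc w = w :=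
  rr_z i hc (by rw [polar_comm, W_V0e hw]) (by rw [polar_comm, W_V0f hw])

/-- one index -/
theorem tdiag_one (i : Fin m) {a : F} (ha : a ≠ 0) :
    TDiag W (fun k => if k = i then a else 1) (rr W i 1 one_ne_zero * rr W i a ha) := by
  refine ⟨fun k => ?_, fun k => ?_, fun k => ?_, fun w hw => ?_⟩
  · show (if k = i then a else 1) ≠ 0
    split_ifs
    · exact ha
    · exact one_ne_zero
  · show rr W i 1 one_ne_zero (rr W i a ha _) = (if k = i then a else 1) • W.e k
    split_ifs with h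
    · rw [h, rr_e, map_smul, rr_f, inv_one, one_smul]
    · rw [rr_e' (Ne.symm h), rr_e' (Ne.symm h), one_smul]
  · show rr W i 1 one_ne_zero (rr W i a ha _) = (if k = i then a else 1)⁻¹ • W.f k
    split_ifs with h
    · rw [h, rr_f, map_smul, rr_e, one_smul]
    · rw [rr_f' (Ne.symm h), rr_f' (Ne.symm h), inv_one, one_smul]
  · show rr W i 1 one_ne_zero (rr W i a ha _) = w
    rw [rr_V0 i _ hw, rr_V0 i _ hw]

theorem rr_comm {i j : Fin m} (hij : i ≠ j) {c d : F} (hc : c ≠ 0) (hd : d ≠ 0) :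
    rr W j d hd * rr W i c hc = rr W i c hc * rr W j d hd := by
  have h1 : rr W j d hd (W.e i - c • W.f i) = W.e i - c • W.f i := by
    rw [map_sub, map_smul, rr_e' (Ne.symm hij), rr_f' (Ne.symm hij)]
  have h2 : rr W j d hd * rr W i c hc * (rr W j d hd)⁻¹ = rr W i c hc := by
    unfold rr at h1 ⊢
    have := refl_conj (refl_mem_O (Q := Q) (v := W.e j - d • W.f j) (by rw [Q_sub (hyp j)]; exact neg_ne_zero.2 hd))
      (v := W.e i - c • W.f i) (by rw [Q_sub (hyp i)]; exact neg_ne_zero.2 hc) (by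
        rw [h1, Q_sub (hyp i)]
        exact neg_ne_zero.2 hc)
    rw [this]
    congr 1
  exact mul_inv_eq_iff_eq_mul.1 h2

/-- **two indices** -/
theorem exists_two (hG : Good Q) {i j : Fin m} (hij : i ≠ j) {a : F} (ha : a ≠ 0) :
    ∃ t : ↥(E Q), TDiag W (fun k => (if k = i then a else 1) * (if k = j then a else 1)) t := by
  refine ⟨⟨(rr W i 1 one_ne_zero * rr W i a ha) * (rr W j 1 one_ne_zero * rr W j a ha), ?_⟩,
    (tdiag_one i ha).mul (tdiag_one j ha)⟩
  have e1 : (rr W i 1 one_ne_zero * rr W i a ha) * (rr W j 1 one_ne_zero * rr W j a ha) =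
      (rr W i 1 one_ne_zero * rr W j 1 one_ne_zero) * (rr W i a ha * rr W j a ha) := by
    rw [mul_assoc, mul_assoc, ← mul_assoc (rr W i a ha), ← rr_comm hij ha one_ne_zero, mul_assoc]
  rw [e1]
  refine (E Q).mul_mem ?_ ?_
  · exact hG.refl_mul_refl_mem _ _ (by rw [Q_sub (hyp i), Q_sub (hyp j)])
  · exact hG.refl_mul_refl_mem _ _ (by rw [Q_sub (hyp i), Q_sub (hyp j)])

/-- **a square on one index** -/
theorem exists_sq (hG : Good Q) (i : Fin m) {b : F} (hb : b ≠ 0) :
    ∃ t : ↥(E Q), TDiag W (fun k => if k = i then b ^ 2 else 1) t := by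
  have hb2 : b ^ 2 ≠ 0 := pow_ne_zero 2 hb
  refine ⟨⟨rr W i 1 one_ne_zero * rr W i (b ^ 2) hb2, ?_⟩, tdiag_one i hb2⟩
  have h1 : Hyp Q (b⁻¹ • W.e i) (b • W.f i) := by
    refine ⟨?_, ?_, ?_⟩
    · rw [QuadraticMap.map_smul, W_e, smul_zero]
    · rw [QuadraticMap.map_smul, W_f, smul_zero]
    · rw [polar_smul_left, polar_smul_right, (hyp i).pair, smul_eq_mul, smul_eq_mul, mul_one, inv_mul_cancel₀ hb]
  have h2 : Q (b⁻¹ • W.e i - (1 : F) • (b • W.f i)) ≠ 0 := by
    rw [Q_sub h1]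
    exact neg_ne_zero.2 one_ne_zero
  have h3 : rr W i (b ^ 2) hb2 = refl Q (b⁻¹ • W.e i - (1 : F) • (b • W.f i)) h2 := by
    ext v
    unfold rr
    rw [refl_apply, refl_apply, Q_sub (hyp i), Q_sub h1]
    have e1 : b⁻¹ • W.e i - (1 : F) • (b • W.f i) = b⁻¹ • (W.e i - b ^ 2 • W.f i) := by
      rw [smul_sub, one_smul, smul_smul]
      congr 2
      field_simp
    rw [e1, polar_smul_left, smul_smul, smul_eq_mul]
    congr 2
    field_simp
  rw [h3]
  unfold rr
  exact hG.refl_mul_refl_mem h2 _ (by rw [Q_sub (hyp i), Q_sub h1])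

end exist

end Cfsg.Agent.H79.XZ
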